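import Groth.Agent.HypSurfLib.Ideal
import Groth.Agent.InterDimLib.Proj
import Groth.Agent.InterDimLib.Topo
import Groth.Agent.GrTildeLib.QCoh
import Groth.Agent.DimFormulaLib.FibrePoints
import Groth.Prelude.Def_LefPen
import Mathlib

/-!
# Components of a complete intersection in projective space
-/

set_option autoImplicit false
set_option backward.isDefEq.respectTransparency false
set_option backward.isDefEq.respectTransparency.types false
set_option linter.style.haveILetI false

universe u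

open CategoryTheory CategoryTheory.Limits AlgebraicGeometry TopologicalSpace Opposite Groth.Agent

noncomputable section

namespace Groth.Agent.CIEquidimLib

variable {n : ℕ} {k : Type u} [Field k]

theorem mem_basicOpen_dehom {d : ℕ} (G : LefPen.Form n k d) (i : Fin (n + 1)) (x : CohB1.ProjSpace n k)
    (hx : x ∈ LefPen.chart n k i) :
    x ∈ (CohB1.ProjSpace n k).basicOpen (LefPen.dehom G i) ↔ G.1 ∉ InterDimLib.idl (x : InterDimLib.Pts n k) := by
  have h := GrTildeLib.basicOpen_awayToSection (𝒜 := CohB1.polyGrading n k) (LefPen.X_mem n k i) d G.1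
    (by rw [smul_eq_mul, mul_one]; exact G.2)
  have h' : (CohB1.ProjSpace n k).basicOpen (LefPen.dehom G i) = Proj.basicOpen (CohB1.polyGrading n k) (MvPolynomial.X i * G.1) := h
  rw [h', Proj.basicOpen_mul]
  exact ⟨fun h2 => h2.2, fun h2 => ⟨hx, h2⟩⟩

theorem mem_support_hypIdeal {d : ℕ} (G : LefPen.Form n k d) (x : CohB1.ProjSpace n k) :
    x ∈ (LefPen.hypIdeal G).support ↔ G.1 ∈ InterDimLib.idl (x : InterDimLib.Pts n k) := by
  obtain ⟨i, hi⟩ := Opens.mem_iSup.1 ((AmpleEmb.iSup_stdOpen n k).ge (Opens.mem_top x))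
  have hxc : x ∈ LefPen.chart n k i := hi
  let U : (CohB1.ProjSpace n k).affineOpens :=
    ⟨LefPen.chart n k i, Proj.isAffineOpen_basicOpen _ _ (LefPen.X_mem n k i) one_pos⟩
  rw [Scheme.IdealSheafData.mem_support_iff_of_mem (U := U) hxc, Scheme.mem_zeroLocus_iff]
  constructor
  · intro h
    by_contra hG
    have hG0 : G ≠ 0 := fun h0 => hG (by rw [h0]; exact zero_mem _)
    refine h (LefPen.dehom G i) ?_ ((mem_basicOpen_dehom G i x hxc).2 hG)
    rw [SetLike.mem_coe, HypSurfLib.hypIdeal_ideal G hG0 U]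
    exact ⟨_, HypSurfLib.mulG_chartGen G i⟩
  · intro hG c hc hxb
    have h1 : c ∈ LefPen.hypFamily G U := Scheme.IdealSheafData.ideal_ofIdeals_le _ U hc
    have h2 := (Submodule.mem_iInf _).1 h1 i
    rw [Ideal.mem_comap, Ideal.mem_span_singleton'] at h2
    obtain ⟨a, ha⟩ := h2
    have h3 : x ∈ (CohB1.ProjSpace n k).basicOpen
        ((CohB1.ProjSpace n k).presheaf.map (homOfLE (inf_le_left : U.1 ⊓ LefPen.chart n k i ≤ U.1)).op c) := by
      rw [Scheme.basicOpen_res]
      exact ⟨⟨hxc, hxc⟩, hxb⟩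
    erw [← ha, Scheme.basicOpen_mul] at h3
    have h4 := h3.2
    erw [Scheme.basicOpen_res] at h4
    exact (mem_basicOpen_dehom G i x hxc).1 h4.2 hG

theorem mem_support_ciIdeal {ι : Type} {a : ι → ℕ} (G : ∀ j, LefPen.Form n k (a j)) (x : CohB1.ProjSpace n k) :
    x ∈ (LefPen.ciIdeal G).support ↔ Set.range (fun j => (G j).1) ⊆ InterDimLib.idl (x : InterDimLib.Pts n k) := by
  rw [LefPen.ciIdeal, Scheme.IdealSheafData.support_iSup, ← SetLike.mem_coe, Closeds.coe_iInf, Set.mem_iInter,
    Set.range_subset_iff]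
  exact forall_congr' fun j => mem_support_hypIdeal (G j) x

/-- Every component of the zero scheme of `r` forms has dimension at least `n - r`. -/
theorem le_dim_component {r : ℕ} {a : Fin r → ℕ} (G : ∀ j : Fin r, LefPen.Form n k (a j))
    (Z : Set ↥(LefPen.ciIdeal G).subscheme) (hZ : Z ∈ irreducibleComponents ↥(LefPen.ciIdeal G).subscheme) :
    ((n - r : ℕ) : WithBot ℕ∞) ≤ topologicalKrullDim ↥Z := by
  let ι := (LefPen.ciIdeal G).subschemeι
  obtain ⟨z, hz, hmax⟩ := DimFormulaLib.exists_generic_of_mem_irreducibleComponents hZ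
  let η : InterDimLib.Pts n k := ι z
  have hrange : Set.range ι = ((LefPen.ciIdeal G).support : Set (CohB1.ProjSpace n k)) :=
    Scheme.IdealSheafData.range_subschemeι _
  have hfη : Set.range (fun j => (G j).1) ⊆ InterDimLib.idl η :=
    (mem_support_ciIdeal G (ι z)).1 (by rw [← SetLike.mem_coe, ← hrange]; exact ⟨z, rfl⟩)
  obtain ⟨x, hx⟩ := InterDimLib.exists_pt (n := n) (k := k) (Q := ⊥) Ideal.isPrime_bot (Ideal.IsHomogeneous.bot _) (by
    intro h
    have h0 : (MvPolynomial.X 0 : MvPolynomial (Fin (n + 1)) k) ∈ MvPolynomial.idealOfVars (Fin (n + 1)) k :=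
      Ideal.subset_span ⟨0, rfl⟩
    rw [← h, Ideal.mem_bot] at h0
    exact MvPolynomial.X_ne_zero 0 h0)
  have hd : ringKrullDim (MvPolynomial (Fin (n + 1)) k ⧸ InterDimLib.idl x) = ((n + 1 : ℕ) : WithBot ℕ∞) := by
    rw [hx, ringKrullDim_eq_of_ringEquiv (RingEquiv.quotientBot _), MvPolynomial.ringKrullDim_of_isNoetherianRing,
      ringKrullDim_eq_zero_of_field, zero_add]
    simp
  obtain ⟨e, he⟩ := InterDimLib.exists_dim_idl η
  have h := InterDimLib.dim_le_of_minimal (fun j => (G j).1) (fun j => ⟨a j, (G j).2⟩)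
    (x := x) (η := η) (InterDimLib.idl_le_iff.1 (hx ▸ bot_le)) hfη
    (fun w _ hwη hw => by
      have hw' : (w : CohB1.ProjSpace n k) ∈ Set.range ι := by
        rw [hrange]; exact (mem_support_ciIdeal G _).2 hw
      obtain ⟨w', hw'⟩ := hw'
      have hsp : w' ⤳ z := ι.isClosedEmbedding.isInducing.specializes_iff.1 (by rw [hw']; exact hwη)
      show w = ι z
      rw [← hmax w' hsp]
      exact hw'.symm) hd he
  rw [Nat.card_fin] at h
  have hdimZ : topologicalKrullDim ↥Z = (e : WithBot ℕ∞) := by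
    rw [← InterDimLib.dim_closure η he, ← hz]
    have him : ι '' closure ({z} : Set (LefPen.ciIdeal G).subscheme) = closure ({η} : Set (InterDimLib.Pts n k)) := by
      rw [← ι.isClosedEmbedding.closure_image_eq, Set.image_singleton]
    exact IsHomeomorph.topologicalKrullDim_eq _
      ((ι.isClosedEmbedding.isEmbedding.homeomorphImage _).trans (Homeomorph.setCongr him)).isHomeomorph
  rw [hdimZ]
  exact_mod_cast (show n - r ≤ e by omega)

end Groth.Agent.CIEquidimLib
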